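import Groth.Agent.InertiaEt.Theta
import Groth.Agent.AlgStLib.LiftFamily
import Groth.Agent.AlgStLib.DiagProps
import Groth.Agent.AlgStLib.InertiaQDM
import Groth.Agent.AlgStLib.Misc1
import Groth.Agent.AlgStLib.IsoClassSp
import Groth.Agent.SpRelDim.FiniteDense

/-!
# Finite inertia from etale local separated covers preserving automorphism groups
-/

set_option autoImplicit false
set_option backward.isDefEq.respectTransparency false
set_option backward.isDefEq.respectTransparency.types false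
universe u

noncomputable section

namespace Groth.Agent.InertiaEt

open CategoryTheory CategoryTheory.Limits AlgebraicGeometry Opposite Groth.Agent.FibCatRep
  Groth.Agent.FibCat2Misc Groth.Agent.AlgSpLib Groth.Agent.StkBasic Groth.Agent.AlgStLib
open _root_.AlgSp _root_.AlgSt

variable {S : Scheme.{u}} {𝒰 𝒳 : AlgSt.Cat S}

local notation "AS" => IsAlgStack Scheme.fppfPrecoverage
local notation "q[" X "]" => FibCat.inertiaToBase (FibCat.toSelf X)

/-- the pulled back inertia is universally closed -/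
theorem repWith_univClosed_fpFst (h𝒰 : AS 𝒰) (h𝒳 : AS 𝒳) (h : 𝒰 ⥤ᵇ 𝒳)
    (hsep : AlgSt.IsSeparatedOver 𝒰) (hd : RepByAlgSp1 (FibCat.diag (FibCat.toSelf 𝒳)))
    (haut : ∀ (Ω : Type u) [Field Ω] [IsAlgClosed Ω] (t : Spec (CommRingCat.of Ω) ⟶ S) (u : 𝒰.p.Fiber (Over.mk t)),
      Function.Surjective (Gerb.autMap h u.1)) :
    RepByAlgSpWith (AlgSp.IsUnivClosedMor (S := S)) (FibCat.fpFst h q[𝒳]) := by
  haveI := respectsIso_univClosed (S := S)
  have hq : RepByAlgSp1 (FibCat.fpFst h q[𝒳]) :=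
    repByAlgSp1_of_with (repWith_fpFst _ q[𝒳] h (repWith_inertia_of_diag (repByAlgSpWith_top_iff.2 hd)))
  haveI := respectsIso_onSp (cls_proper (S := S)).bc
  have hp : RepByAlgSpWith (onSp (AlgSp.IsProperMor (S := S))) q[𝒰] :=
    repWith_onSp_iff.2 (repWith_inertia_of_diag hsep)
  refine (AlgStLib.repWith_iff _ (FibCat.fpFst h q[𝒳])).2 fun U y => ?_
  obtain ⟨P₁, e₁, he₁, hs₁, hP₁, hprop⟩ := (AlgStLib.repWith_iff _ q[𝒰]).1 hp U y
  obtain ⟨F₂, e₂, he₂⟩ := repByAlgSp_fp_yon hq U y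
  refine ⟨F₂.obj.obj, e₂, he₂, F₂.obj.property, F₂.property, ?_⟩
  haveI : (BasedFunctor.id 𝒰).toFunctor.Full := inferInstanceAs (𝟭 𝒰.obj).Full
  haveI : (BasedFunctor.id 𝒰).toFunctor.Faithful := inferInstanceAs (𝟭 𝒰.obj).Faithful
  let q₂ := FibCat.fpFst h q[𝒳]
  let M := fpMap (F := y) (G := q₂) y q[𝒰] (BasedFunctor.id _) (theta h) (BasedFunctor.id 𝒰)
    (Iso.refl _) (Iso.refl _)
  obtain ⟨k₂, hk₂, -, ⟨j₂⟩⟩ := isEquivOver_symm he₂
  let C := BasedFunctor.comp (BasedFunctor.comp e₁ M) k₂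
  let F₁ : Sp S := ⟨P₁, hs₁⟩
  let π₁ : F₁ ⟶ (yon S).obj U := ObjectProperty.homMk (prjMap e₁)
  let π₂ : F₂.obj ⟶ (yon S).obj U := ObjectProperty.homMk (prjMap e₂)
  let φ : F₁ ⟶ F₂.obj := ObjectProperty.homMk (mapOf C)
  have hφ : φ ≫ π₂ = π₁ := by
    refine ObjectProperty.hom_ext _ ?_
    show mapOf C ≫ mapOf (BasedFunctor.comp e₂ (FibCat.fpFst y q₂)) = mapOf (BasedFunctor.comp e₁ (FibCat.fpFst y q[𝒰]))
    rw [← mapOf_comp]
    exact mapOf_congr ((post _ (FibCat.fpFst y q₂)).mapIso ((Stk.restr (BasedFunctor.comp e₁ M) _).mapIso j₂))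
  -- surjectivity
  have hθ : AlgSt.IsSurjective (theta h) := isSurjective_theta h
    (isFibGrpd_fp h𝒰.isStack.1 (IsoSh.isAlgStack_inertia h𝒳).isStack.1 h𝒳.isStack.1 h q[𝒳]) haut
  have hM : AlgSt.IsSurjective M := fun p => by
    have hI := (IsoSh.isAlgStack_inertia h𝒰).isStack.1
    have hfp := isFibGrpd_fp h𝒰.isStack.1 (IsoSh.isAlgStack_inertia h𝒳).isStack.1 h𝒳.isStack.1 h q[𝒳]
    have hy := isFibGrpd_ofSpace ((pyon S).obj U)
    let N : FibCat.fp (theta h) (FibCat.fpSnd y q₂) ⥤ᵇ FibCat.fp y q[𝒰] :=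
      FibCat.fpLift (BasedFunctor.comp (FibCat.fpSnd (theta h) (FibCat.fpSnd y q₂)) (FibCat.fpFst y q₂))
        (FibCat.fpFst (theta h) (FibCat.fpSnd y q₂))
        ((Stk.restr (FibCat.fpSnd (theta h) (FibCat.fpSnd y q₂)) _).mapIso (FibCat.fpIso y q₂) ≪≫
          (post _ q₂).mapIso (FibCat.fpIso (theta h) (FibCat.fpSnd y q₂)).symm)
    let i : BasedFunctor.comp N M ≅ FibCat.fpSnd (theta h) (FibCat.fpSnd y q₂) :=
      fpExt (Iso.refl _) (FibCat.fpIso (theta h) (FibCat.fpSnd y q₂)) fun o => by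
        show y.map (𝟙 _) ≫ o.obj.snd.obj.iso.hom =
          (𝟙 _ ≫ (o.obj.snd.obj.iso.hom ≫ q₂.map o.obj.iso.inv) ≫ 𝟙 _) ≫ q₂.map o.obj.iso.hom
        rw [y.toFunctor.map_id]
        simp only [Category.id_comp, Category.comp_id, Category.assoc]
        erw [← q₂.toFunctor.map_comp, Iso.inv_hom_id, q₂.toFunctor.map_id, Category.comp_id]
    obtain ⟨w, hw⟩ := isSurjective_fpSnd hI (isFibGrpd_fp hy hfp h𝒰.isStack.1 y q₂) hfp
      (theta h) (FibCat.fpSnd y q₂) hθ p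
    refine ⟨AlgSt.Points.map N w, ?_⟩
    rw [← map_comp_points, map_congr_points i, hw]
  have hC : AlgSt.IsSurjective C := fun p => by
    obtain ⟨a, rfl⟩ := (bijective_map_of_equiv hk₂).2 p
    obtain ⟨b, rfl⟩ := hM a
    obtain ⟨c, rfl⟩ := (bijective_map_of_equiv he₁).2 b
    exact ⟨c, by rw [map_comp_points, map_comp_points]⟩
  have hs : AlgSp.IsSurjectiveMor φ := fun x => by
    obtain ⟨p, hp⟩ := hC (stPts _ x)
    obtain ⟨a, rfl⟩ := (bijective_stPts F₁).2 p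
    refine ⟨a, (bijective_stPts F₂.obj).1 ?_⟩
    rw [← map_stPts, ← hp]
    exact map_congr_points (mapOfIso C) _
  -- descent of universal closedness along the surjection
  intro W W' hW a fst snd sq E hE
  have sqX := IsPullback.of_hasPullback φ fst
  have big := (hφ ▸ sqX.paste_vert sq :)
  have hcl := (hprop hP₁ (IsAlgSpace.yon_obj U)).2.2 hW a _ _ big _
    (hE.preimage (AlgSp.Points.continuous_map (pullback.snd φ fst)))
  convert hcl using 1
  ext w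
  constructor
  · rintro ⟨x, hx, rfl⟩
    obtain ⟨x', rfl⟩ := isSurjectiveMor_baseChange sqX hs x
    exact ⟨x', hx, AlgSp.Points.map_comp _ _ _⟩
  · rintro ⟨x, hx, rfl⟩
    exact ⟨_, hx, (AlgSp.Points.map_comp _ _ _).symm⟩

theorem repWith_flat_of_etale {f : 𝒰 ⥤ᵇ 𝒳} (h : RepByAlgSpWith (AlgSp.IsEtaleMor (S := S)) f) :
    RepByAlgSpWith (LocP @Flat) f :=
  repWith_mono h fun _ U' _ _ ha V W a b k h₁ h₂ c => by
    haveI : Etale k.left := (isEtaleMor_iff_locP (IsAlgSpace.yon_obj U')).1 ha a b k h₁ h₂ c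
    infer_instance

theorem repWith_lfp_of_etale {f : 𝒰 ⥤ᵇ 𝒳} (h : RepByAlgSpWith (AlgSp.IsEtaleMor (S := S)) f) :
    RepByAlgSpWith (LocP @LocallyOfFinitePresentation) f :=
  repWith_mono h fun _ U' _ _ ha V W a b k h₁ h₂ c => by
    haveI : Etale k.left := (isEtaleMor_iff_locP (IsAlgSpace.yon_obj U')).1 ha a b k h₁ h₂ c
    infer_instance

/-- finite inertia from etale local covers -/
theorem repWith_finite_inertia (h𝒳 : AS 𝒳)
    (hΔ : RepByAlgSpWith (AlgSp.IsSeparatedMor ⊓ AlgSp.IsQuasiCompactMor) (FibCat.diag (FibCat.toSelf 𝒳)))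
    (hqf : AlgSt.IsQuasiDMOver 𝒳)
    (hloc : ∀ x : AlgSt.Points 𝒳, ∃ (𝒰 : AlgSt.Cat S) (h : 𝒰 ⥤ᵇ 𝒳),
      AS 𝒰 ∧ x ∈ Set.range (AlgSt.Points.map h) ∧
      RepByAlgSpWith (AlgSp.IsEtaleMor (S := S)) h ∧ AlgSt.IsSeparatedOver 𝒰 ∧
      ∀ (Ω : Type u) [Field Ω] [IsAlgClosed Ω] (t : Spec (CommRingCat.of Ω) ⟶ S) (u : 𝒰.p.Fiber (Over.mk t)),
        Function.Surjective (Gerb.autMap h u.1)) :
    RepByAlgSpWith AlgSp.IsFiniteMor q[𝒳] := by
  haveI := respectsIso_univClosed (S := S)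
  haveI := respectsIso_separated (S := S)
  haveI := respectsIso_quasiCompact (S := S)
  have huc : RepByAlgSpWith (AlgSp.IsUnivClosedMor (S := S)) q[𝒳] := by
    refine (AlgStLib.repWith_iff _ q[𝒳]).2 fun U y => ?_
    obtain ⟨F, e, he⟩ := repByAlgSp_fp_yon
      (repByAlgSp1_of_with (repWith_inertia_of_diag (repByAlgSpWith_top_iff.2 h𝒳.diag))) U y
    refine ⟨F.obj.obj, e, he, F.obj.property, F.property, ?_⟩
    let y₀ := BasedFunctor.comp (AlgSt.ofOverCat U) y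
    have key : ∀ t : ↥U.left, ∃ (W : Over S) (γ : W ⟶ U), Flat γ.left ∧ LocallyOfFinitePresentation γ.left ∧
        t ∈ Set.range γ.left ∧ ∃ (𝒰 : AlgSt.Cat S) (h : 𝒰 ⥤ᵇ 𝒳) (z : Stk.ofPsh ((pyon S).obj W) ⥤ᵇ 𝒰),
          Nonempty (BasedFunctor.comp z h ≅ BasedFunctor.comp (Stk.ofPshMap ((pyon S).map γ)) y) ∧
          RepByAlgSpWith (AlgSp.IsUnivClosedMor (S := S)) (FibCat.fpFst h q[𝒳]) := fun t => by
      obtain ⟨𝒰, h, h𝒰, ⟨x, hx⟩, het, hsep, haut⟩ := hloc (AlgSt.Points.ofChart y₀ t)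
      obtain ⟨W, γ, h₁, h₂, h₃, z, ⟨j⟩⟩ := exists_lift_at h𝒳 h𝒰 h
        (locQ_of_repWith st_flat cls_flat.bc cls_flat.loc h𝒰 h𝒳 (repWith_flat_of_etale het))
        (locQ_of_repWith st_lfp cls_lfp.bc cls_lfp.loc h𝒰 h𝒳 (repWith_lfp_of_etale het)) y₀ t ⟨x, hx⟩
      let i0 : BasedFunctor.comp (BasedFunctor.comp (AlgSt.toOverCat W) (AlgSt.overMap γ)) (AlgSt.ofOverCat U) ≅
          Stk.ofPshMap ((pyon S).map γ) :=
        isoOfSec _ _ fun o => Eq.trans (ULift.ext _ _ (by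
          show 𝟙 _ ≫ o.sec.down ≫ γ = o.sec.down ≫ γ
          rw [Category.id_comp])) (secOf_ofPshMap ((pyon S).map γ) o).symm
      exact ⟨W, γ, h₁, h₂, h₃, 𝒰, h, BasedFunctor.comp (AlgSt.toOverCat W) z,
        ⟨(Stk.restr (AlgSt.toOverCat W) _).mapIso j ≪≫ (post _ y).mapIso i0⟩,
        repWith_univClosed_fpFst h𝒰 h𝒳 h hsep h𝒳.diag haut⟩
    choose V g hfl hfp hmem 𝒰 h z hz huc using key
    let π : F.obj ⟶ (yon S).obj U := ObjectProperty.homMk (prjMap e)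
    have sqS := fun i => IsPullback.of_hasPullback π ((yon S).map (g i))
    have hcov : IsFppfCover (fun i => (yon S).obj (V i)) (fun i => (yon S).map (g i)) := by
      refine ⟨fun i => ⟨(locP_yon_iff etST_flat (g i)).2 (hfl i), (locP_yon_iff etST_lfp (g i)).2 (hfp i)⟩,
        fun p => ?_⟩
      obtain ⟨t, rfl⟩ : ∃ t, AlgSp.Points.ofScheme U t = p := ⟨_, AlgSp.Points.ofScheme_toScheme U p⟩
      obtain ⟨w, hw⟩ := hmem t
      exact ⟨t, AlgSp.Points.ofScheme (V t) w, (ofScheme_map (g t) w).trans (congrArg _ hw)⟩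
    refine (isLocalOnBase_fppf isLocalOnBase_isUnivClosedMor _ _ (IsAlgSpace.yon_obj U)
      (fun _ => IsAlgSpace.yon_obj _) hcov π
      F.property _ _ _ (fun i => isAlgSpace_of_isPullback_space (IsAlgSpace.yon_obj U) F.property
        (IsAlgSpace.yon_obj _) (sqS i)) sqS).2 fun j => ?_
    obtain ⟨i⟩ := hz j
    obtain ⟨e', he', hprj⟩ := exists_model_baseChange (f := q[𝒳]) ((pyon S).map (g j)) he
      (P' := (pullback π ((yon S).map (g j))).obj) (fst := (pullback.fst π ((yon S).map (g j))).hom)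
      (snd := (pullback.snd π ((yon S).map (g j))).hom) ((sqS j).map (sheafToPresheaf (J S) (Type (u + 1))))
    obtain ⟨e'', he'', hprj'⟩ := exists_model_change (f := q[𝒳]) i.symm he'
    obtain ⟨k, hk, -, ⟨φ⟩⟩ := isEquivOver_symm (isEquivOver_pasteFun (z j) (h j) q[𝒳])
    obtain ⟨_, _, hq⟩ := good_of_model (huc j) (f := FibCat.fpFst (h j) q[𝒳]) (isEquivOver_comp he'' hk)
    have hsnd : prjMap (BasedFunctor.comp e'' k) = prjMap e'' :=
      mapOf_congr ((post _ (FibCat.fpFst (BasedFunctor.comp (z j) (h j)) q[𝒳])).mapIso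
        ((Stk.restr e'' _).mapIso φ))
    convert hq using 1
    exact ObjectProperty.hom_ext _ (hprj.symm.trans (hprj'.symm.trans hsnd.symm))
  haveI := respectsIso_onSp (cls_lqf (S := S)).bc
  haveI := respectsIso_and (AlgSp.IsSeparatedMor (S := S)) (AlgSp.IsQuasiCompactMor (S := S))
  haveI := respectsIso_and (AlgSp.IsSeparatedMor ⊓ AlgSp.IsQuasiCompactMor : MorphismProperty (Sp S))
    (onSp (LocP (S := S) (@LocallyQuasiFinite ⊓ @LocallyOfFiniteType)))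
  refine repWith_mono (repWith_and (repWith_and (repWith_inertia_of_diag hΔ)
    (repWith_onSp_iff.2 (repWith_inertia_of_diag hqf))) huc) fun _ U a hF ha => ?_
  have hl := ha.1.2 hF (IsAlgSpace.yon_obj U)
  exact SpRelDim.isFiniteMor_of_lqf_proper hF (IsAlgSpace.yon_obj U) a hl
    ⟨ha.1.1.1, ⟨fun _ _ c d m h₁ h₂ hc => (hl c d m h₁ h₂ hc).2, ha.1.1.2⟩, ha.2⟩

end Groth.Agent.InertiaEt
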