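import Groth.Agent.AlgStLib.Points
import Groth.Agent.AlgStLib.Squares
import Groth.Prelude.Def_StGerb2

/-!
# Inertia pushed along a functor; surjectivity on points from surjective automorphism maps
-/

set_option autoImplicit false
set_option backward.isDefEq.respectTransparency false
set_option backward.isDefEq.respectTransparency.types false
universe u

noncomputable section

namespace Groth.Agent.InertiaEt

open CategoryTheory CategoryTheory.Limits AlgebraicGeometry Opposite Groth.Agent.FibCatRep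
  Groth.Agent.FibCat2Misc Groth.Agent.AlgSpLib Groth.Agent.StkBasic Groth.Agent.AlgStLib
open _root_.AlgSp _root_.AlgSt

variable {S : Scheme.{u}} {𝒰 𝒳 : AlgSt.Cat S} (h : 𝒰 ⥤ᵇ 𝒳)

/-- the image of an object of inertia -/
def pushI : FibCat.inertia (FibCat.toSelf 𝒰) ⥤ᵇ FibCat.inertia (FibCat.toSelf 𝒳) where
  toFunctor :=
    { obj := fun o => ⟨h.obj o.pt, h.toFunctor.mapIso o.aut, by
        show 𝒳.p.map (h.map o.aut.hom) = 𝟙 (𝒳.p.obj (h.obj o.pt))
        rw [FibCatRep.map_map, show 𝒰.p.map o.aut.hom = 𝟙 _ from o.map_aut]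
        simp⟩
      map := fun {o o'} m => ⟨h.map m.hom, by
        show h.map o.aut.hom ≫ h.map m.hom = h.map m.hom ≫ h.map o'.aut.hom
        rw [← h.toFunctor.map_comp, m.comm, h.toFunctor.map_comp]⟩
      map_id := fun o => FibCat.InertiaObj.hom_ext (h.toFunctor.map_id _)
      map_comp := fun m n => FibCat.InertiaObj.hom_ext (h.toFunctor.map_comp _ _) }
  w := by
    change (FibCat.InertiaObj.forget ⋙ h.toFunctor) ⋙ 𝒳.p = FibCat.InertiaObj.forget ⋙ 𝒰.p
    rw [Functor.assoc, h.w]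

/-- the comparison of inertia with the pulled back inertia -/
def theta : FibCat.inertia (FibCat.toSelf 𝒰) ⥤ᵇ FibCat.fp h (FibCat.inertiaToBase (FibCat.toSelf 𝒳)) :=
  FibCat.fpLift (FibCat.inertiaToBase (FibCat.toSelf 𝒰)) (pushI h)
    (BasedNatIso.mkNatIso (NatIso.ofComponents (fun o => Iso.refl (h.obj o.pt))
      (fun {o o'} m => (Category.comp_id (h.map m.hom)).trans (Category.id_comp (h.map m.hom)).symm))
      (fun o => IsHomLift.of_fac' _ _ _ (h.w_obj o.pt) (h.w_obj o.pt)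
        (show 𝒳.p.map (𝟙 (h.obj o.pt)) = _ by rw [CategoryTheory.Functor.map_id]; simp; rfl)))

/-- the comparison is surjective on points if automorphisms lift over algebraically closed fields -/
theorem isSurjective_theta
    (hfp : FibCat.IsFibGrpd (FibCat.fp h (FibCat.inertiaToBase (FibCat.toSelf 𝒳))).p)
    (haut : ∀ (Ω : Type u) [Field Ω] [IsAlgClosed Ω] (t : Spec (CommRingCat.of Ω) ⟶ S) (u : 𝒰.p.Fiber (Over.mk t)),
      Function.Surjective (Gerb.autMap h u.1)) :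
    AlgSt.IsSurjective (theta h) := by
  intro w
  obtain ⟨V, y, t, rfl⟩ := exists_ofChart hfp w
  let Ω : Type u := AlgebraicClosure (V.left.residueField t)
  let g : Spec (CommRingCat.of Ω) ⟶ V.left :=
    Spec.map (CommRingCat.ofHom (algebraMap (V.left.residueField t) Ω)) ≫ V.left.fromSpecResidueField t
  let T : Over S := Over.mk (g ≫ V.hom)
  let e : T ⟶ V := Over.homMk g rfl
  let x := BasedFunctor.comp (AlgSt.overMap e) y
  let top : (FibCat.overCat T).obj := Over.mk (𝟙 T)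
  let o' := x.obj top
  let τ : ↥T.left := (IsLocalRing.closedPoint Ω : PrimeSpectrum Ω)
  have hτ : e.left τ = t := V.left.fromSpecResidueField_apply t _
  let u : 𝒰.p.Fiber (Over.mk (g ≫ V.hom)) := ⟨o'.obj.fst, x.w_obj top⟩
  let j : h.obj o'.obj.fst ≅ o'.obj.snd.pt := o'.obj.iso
  obtain ⟨q, hq⟩ := map_iso_hom o'
  have hq' : 𝒳.p.map j.hom = eqToHom q := hq
  have haut' : 𝒳.p.map o'.obj.snd.aut.hom = 𝟙 _ := o'.obj.snd.map_aut
  let σ : h.obj o'.obj.fst ≅ h.obj o'.obj.fst := j ≪≫ o'.obj.snd.aut ≪≫ j.symm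
  have hinv : 𝒳.p.map j.inv = eqToHom q.symm := by
    rw [← Functor.mapIso_inv, ← cancel_epi (𝒳.p.mapIso j).hom, Iso.hom_inv_id, Functor.mapIso_hom, hq']
    simp
  have hσ : 𝒳.p.map σ.hom = 𝟙 _ := by
    show 𝒳.p.map (j.hom ≫ o'.obj.snd.aut.hom ≫ j.inv) = _
    rw [Functor.map_comp, Functor.map_comp, hq', haut', hinv]
    simp
  have hσ' : 𝒳.p.map σ.inv = 𝟙 _ := by
    rw [← Functor.mapIso_inv, ← cancel_epi (𝒳.p.mapIso σ).hom, Iso.hom_inv_id, Functor.mapIso_hom, hσ]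
    simp
  let β : Gerb.AutO (h.obj o'.obj.fst) :=
    { hom := ⟨σ.hom, IsHomLift.of_fac' _ _ _ rfl rfl (by rw [hσ]; simp)⟩
      inv := ⟨σ.inv, IsHomLift.of_fac' _ _ _ rfl rfl (by rw [hσ']; simp)⟩
      hom_inv_id := Functor.Fiber.hom_ext σ.hom_inv_id
      inv_hom_id := Functor.Fiber.hom_ext σ.inv_hom_id }
  obtain ⟨α, hα⟩ := haut Ω (g ≫ V.hom) u β
  have hα' : h.map α.hom.1 = σ.hom := congrArg (fun b : Gerb.AutO (h.obj o'.obj.fst) => b.hom.1) hα
  let a : o'.obj.fst ≅ o'.obj.fst :=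
    { hom := α.hom.1, inv := α.inv.1
      hom_inv_id := congrArg Subtype.val α.hom_inv_id
      inv_hom_id := congrArg Subtype.val α.inv_hom_id }
  let v : (FibCat.inertia (FibCat.toSelf 𝒰)).obj := ⟨o'.obj.fst, a, by
    have := α.hom.2
    show 𝒰.p.map α.hom.1 = 𝟙 _
    simpa using IsHomLift.fac' 𝒰.p (𝟙 (𝒰.p.obj o'.obj.fst)) α.hom.1⟩
  let pv : FPt (FibCat.inertia (FibCat.toSelf 𝒰)) :=
    { K := Ω, str := g ≫ V.hom, obj := v, lies := u.2 }
  let po : FPt (FibCat.fp h (FibCat.inertiaToBase (FibCat.toSelf 𝒳))) :=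
    { K := Ω, str := g ≫ V.hom, obj := o', lies := x.w_obj top }
  have comm : (h.toFunctor.mapIso a).hom ≫ j.hom = j.hom ≫ o'.obj.snd.aut.hom := by
    show h.map α.hom.1 ≫ j.hom = _
    rw [hα']
    simp [σ]
  let jI : (pushI h).obj v ≅ o'.obj.snd :=
    { hom := ⟨j.hom, comm⟩
      inv := ⟨j.inv, by rw [Iso.comp_inv_eq, Category.assoc, Iso.eq_inv_comp]; exact comm.symm⟩
      hom_inv_id := FibCat.InertiaObj.hom_ext j.hom_inv_id
      inv_hom_id := FibCat.InertiaObj.hom_ext j.inv_hom_id }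
  let i : (theta h).obj v ≅ o' := ObjectProperty.isoMk _ (CategoricalPullback.mkIso (Iso.refl _) jI (by
    show h.map (𝟙 _) ≫ j.hom = 𝟙 _ ≫ j.hom
    rw [h.toFunctor.map_id]))
  refine ⟨AlgSt.Points.mk pv, ?_⟩
  have h1 : AlgSt.Points.map (theta h) (AlgSt.Points.mk pv) = AlgSt.Points.mk po :=
    AlgSt.Points.sound ⟨pv.map (theta h), 𝟙 _, i.hom, trivial⟩
  rw [h1, ← hτ, ← ofChart_overMap]
  let A : Over T := Over.mk (Over.homMk (T.left.fromSpecResidueField τ) rfl :
    Over.mk (T.left.fromSpecResidueField τ ≫ T.hom) ⟶ T)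
  refine (AlgSt.Points.sound ?_).symm
  exact ⟨_, 𝟙 _, x.map (Over.homMk A.hom (Category.comp_id _) : A ⟶ top), trivial⟩

end Groth.Agent.InertiaEt
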